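import Groth.Agent.FreeSec.K79.Tw
import Groth.Agent.PerfB.TensUnit
import Groth.Agent.Ega2.TensMon

/-!
# `D`-free, `0`-free, weakly `D`-free
-/

set_option autoImplicit false
universe u

open CategoryTheory CategoryTheory.Limits AlgebraicGeometry Opposite TopologicalSpace MonoidalCategory
open Groth.Agent Groth.Agent.VarietyB

noncomputable section

namespace K79.FreeSec

section RD

universe v v' w w'

variable {A : Type w} [Category.{v} A] [Abelian A] [EnoughInjectives A]
  {B : Type w'} [Category.{v'} B] [Abelian B] (R : A ⥤ B) [R.Additive] [PreservesFiniteLimits R]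

theorem epi_zero_iff {X Y : A} (g : X ⟶ Y) : Epi ((R.rightDerived 0).map g) ↔ Epi (R.map g) := by
  have h3 := (R.rightDerivedZeroIsoSelf).hom.naturality g
  constructor
  · intro h
    have h4 : R.map g = (R.rightDerivedZeroIsoSelf).inv.app X ≫ (R.rightDerived 0).map g ≫
        (R.rightDerivedZeroIsoSelf).hom.app Y := by
      rw [h3]
      simp
    rw [h4]
    infer_instance
  · intro h
    have h4 : (R.rightDerived 0).map g = (R.rightDerivedZeroIsoSelf).hom.app X ≫ R.map g ≫
        (R.rightDerivedZeroIsoSelf).inv.app Y := by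
      rw [← reassoc_of% h3]
      simp
    rw [h4]
    infer_instance

theorem isZero_one_of_epi {S : ShortComplex A} (hS : S.ShortExact) (hR : Epi (R.map S.g))
    (h : IsZero ((R.rightDerived 1).obj S.X₂)) : IsZero ((R.rightDerived 1).obj S.X₁) := by
  have h1 : Epi (Etrest.RDer1.δ R hS 0) := Etrest.RDer1.epi_δ R hS 0 h
  have h2 : Epi ((R.rightDerived 0).map S.g) := (epi_zero_iff R _).2 hR
  have h5 : Etrest.RDer1.δ R hS 0 = 0 := by
    rw [← cancel_epi ((R.rightDerived 0).map S.g), Etrest.RDer1.comp_δ, comp_zero]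
  exact IsZero.of_epi_eq_zero (Etrest.RDer1.δ R hS 0) h5

theorem epi_of_isZero {S : ShortComplex A} (hS : S.ShortExact)
    (h : IsZero ((R.rightDerived 1).obj S.X₁)) : Epi (R.map S.g) :=
  (epi_zero_iff R _).1 ((Etrest.RDer1.exact₃ R hS 0).epi_f (h.eq_of_tgt _ _))

end RD

variable {X T C S : Scheme.{u}} {F : X.Modules} {q : X ⟶ C} {p : X ⟶ T} {t : T ⟶ S} {c : C ⟶ S}
  [HasInjectiveResolutions X.Modules]

/-- `F ⊗ q^* O ≅ F`. -/
def twUnit (F : X.Modules) (q : X ⟶ C) : twObj F q (Coh.structureModule C) ≅ F :=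
  tensIso F (PerfB.TensUnit.pullbackUnit q) ≪≫ Ega2.Tens.runit F

theorem iff_aux [Flat q] (hF : FlatMod.IsFinLocFree F) (h : IsPullback p q t c) (D : C.IdealSheafData)
    [IsAffineHom (D.subschemeι ≫ c)] :
    IsZero ((Coh.Rpush p 1).obj (twObj F q (ClSub.idealMod D))) ↔
      IsZero ((Coh.Rpush p 1).obj F) ∧ Epi ((Coh.push p).map (tw F q (ClSub.toSubscheme D))) := by
  have hI : EnoughInjectives X.Modules := Ega4B.RpushCompare.enoughInjectives_of_hasInjectiveResolutions
  have hS := shortExact_tw F q hF _ (DegCartier.idealSeq_shortExact D)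
  have e2 : (Coh.Rpush p 1).obj (twObj F q (Coh.structureModule C)) ≅ (Coh.Rpush p 1).obj F :=
    (Coh.Rpush p 1).mapIso (twUnit F q)
  constructor
  · intro h1
    refine ⟨IsZero.of_iso ?_ e2.symm, epi_of_isZero (Coh.push p) hS h1⟩
    refine Etrest.RDer1.isZero_X₂ (Coh.push p) hS 1 h1 ?_
    exact isZero_Rpush_push hF h D.subschemeι _ (CurvesB.UnitCoh.isCoh_structureModule _).1 1 one_pos
  · rintro ⟨h1, h2⟩
    exact isZero_one_of_epi (Coh.push p) hS h2 (IsZero.of_iso h1 e2)

theorem epi_of_le [Flat q] (hF : FlatMod.IsFinLocFree F) (h : IsPullback p q t c) (D D' : C.IdealSheafData)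
    [IsAffineHom (D.subschemeι ≫ c)] (hle : D ≤ D')
    (h1 : Epi ((Coh.push p).map (tw F q (ClSub.toSubscheme D)))) :
    Epi ((Coh.push p).map (tw F q (ClSub.toSubscheme D'))) := by
  have hI : EnoughInjectives X.Modules := Ega4B.RpushCompare.enoughInjectives_of_hasInjectiveResolutions
  have h2 : Epi (Lef.quotMap hle) := by
    have h3 : Epi (ClSub.toSubscheme D ≫ Lef.quotMap hle) := by
      rw [Sga2lef.H102.ProZero.toSubscheme_quotMap]
      exact DegCartier.epi_toSubscheme D'
    exact epi_of_epi (ClSub.toSubscheme D) _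
  let K : ShortComplex C.Modules := ShortComplex.mk (kernel.ι (Lef.quotMap hle)) (Lef.quotMap hle)
    (kernel.condition _)
  have hK : K.ShortExact := VarietyA.StalkCrit.shortExact_kernel (Lef.quotMap hle)
  have hKz : IsZero ((Coh.Rpush p 1).obj (twObj F q (kernel (Lef.quotMap hle)))) := by
    refine isZero_Rpush_killed hF h D _ (PerfA.QCohSerre.isQCoh_kernel _
      (DegCartier.isCoh_quotMod D).1 (DegCartier.isCoh_quotMod D').1) ?_ 1 one_pos
    refine FormalB.KQuot.killedByIdeal_of_mono (kernel.ι (Lef.quotMap hle)) ?_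
    have h4 := FormalA.ClosedImm.killed_pushforward D.subschemeι (Coh.structureModule D.subscheme)
    rwa [Scheme.IdealSheafData.ker_subschemeι] at h4
  have h5 : Epi ((Coh.push p).map (tw F q (Lef.quotMap hle))) :=
    epi_of_isZero (Coh.push p) (shortExact_tw F q hF K hK) hKz
  rw [← Sga2lef.H102.ProZero.toSubscheme_quotMap hle, tw_comp, Functor.map_comp]
  exact epi_comp _ _

end K79.FreeSec
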