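import Groth.Agent.FreeSec.K79.Main
import Groth.Agent.Coherent.K791.FBC0
import Groth.Agent.PerfB.FlatPull
import Groth.Agent.Sga67.ClosedTens

/-!
# Base change of the restriction epimorphism
-/

set_option autoImplicit false
universe u

open CategoryTheory CategoryTheory.Limits AlgebraicGeometry Opposite TopologicalSpace MonoidalCategory
open Groth.Agent Groth.Agent.VarietyB Groth.Agent.CohqA.AffineBaseChange Groth.Agent.CohqA.PullbackUniv
  Groth.Agent.CohqA.PullbackSections
open AlgebraicGeometry.Scheme.Modules (pullbackPushforwardAdjunction pushforward pushforwardComp pushforwardCongr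
  pullbackComp pullbackCongr)

noncomputable section

namespace K79.FreeSec

section Square

variable {X T X₁ T₁ : Scheme.{u}} {p : X ⟶ T} {v : T₁ ⟶ T} {g : X₁ ⟶ X} {p₁ : X₁ ⟶ T₁}

theorem pushSquare_natural (w : g ≫ p = p₁ ≫ v) {A B : X.Modules} {A₁ B₁ : X₁.Modules}
    (a : A ⟶ (pushforward g).obj A₁) (b : B ⟶ (pushforward g).obj B₁) (φ : A ⟶ B) (φ₁ : A₁ ⟶ B₁)
    (h : a ≫ (pushforward g).map φ₁ = φ ≫ b) :
    (pushforward p).map φ ≫ pushSquare p v g p₁ w b =
      pushSquare p v g p₁ w a ≫ (pushforward v).map ((pushforward p₁).map φ₁) := by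
  have h1 : (pushforward p).map φ ≫ pushSquare p v g p₁ w b =
      (pushforward p).map (φ ≫ b) ≫ (pushforwardComp g p).hom.app B₁ ≫ (pushforwardCongr w).hom.app B₁ ≫
        (pushforwardComp p₁ v).inv.app B₁ := by
    rw [Functor.map_comp, Category.assoc]
    rfl
  rw [h1, ← h, Functor.map_comp, Category.assoc, pushSquare, Category.assoc]
  congr 1
  have e1 := (pushforwardComp g p).hom.naturality φ₁
  have e2 := (pushforwardCongr w).hom.naturality φ₁
  have e3 := (pushforwardComp p₁ v).inv.naturality φ₁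
  have e1' : (pushforward p).map ((pushforward g).map φ₁) ≫ (pushforwardComp g p).hom.app B₁ =
      (pushforwardComp g p).hom.app A₁ ≫ (pushforward (g ≫ p)).map φ₁ := e1
  have e3' : (pushforward (p₁ ≫ v)).map φ₁ ≫ (pushforwardComp p₁ v).inv.app B₁ =
      (pushforwardComp p₁ v).inv.app A₁ ≫ (pushforward v).map ((pushforward p₁).map φ₁) := e3
  rw [reassoc_of% e1', reassoc_of% e2, e3']
  simp only [Category.assoc]

/-- Epimorphisms go up. -/
theorem epi_up (w : g ≫ p = p₁ ≫ v) {A B : X.Modules} {A₁ B₁ : X₁.Modules}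
    (a : A ⟶ (pushforward g).obj A₁) (b : B ⟶ (pushforward g).obj B₁) (φ : A ⟶ B) (φ₁ : A₁ ⟶ B₁)
    (h : a ≫ (pushforward g).map φ₁ = φ ≫ b) (hb : IsUniv v (pushSquare p v g p₁ w b))
    (hφ : Epi ((pushforward p).map φ)) : Epi ((pushforward p₁).map φ₁) := by
  have h1 := pushSquare_natural w a b φ φ₁ h
  have hI := (isUniv_iff_isIso v _).1 hb
  let adj := pullbackPushforwardAdjunction v
  have h2 : (Scheme.Modules.pullback v).map ((pushforward p).map φ) ≫
      ((adj.homEquiv _ _).symm (pushSquare p v g p₁ w b)) =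
      ((adj.homEquiv _ _).symm (pushSquare p v g p₁ w a)) ≫ (pushforward p₁).map φ₁ := by
    rw [← Adjunction.homEquiv_naturality_left_symm, h1, Adjunction.homEquiv_naturality_right_symm]
  have h3 : Epi ((Scheme.Modules.pullback v).map ((pushforward p).map φ) ≫
      ((adj.homEquiv _ _).symm (pushSquare p v g p₁ w b))) := epi_comp _ _
  rw [h2] at h3
  exact epi_of_epi ((adj.homEquiv _ _).symm (pushSquare p v g p₁ w a)) _

/-- Epimorphisms go down along faithfully flat morphisms. -/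
theorem epi_down [Flat v] [Surjective v] (w : g ≫ p = p₁ ≫ v) {A B : X.Modules} {A₁ B₁ : X₁.Modules}
    (a : A ⟶ (pushforward g).obj A₁) (b : B ⟶ (pushforward g).obj B₁) (φ : A ⟶ B) (φ₁ : A₁ ⟶ B₁)
    (h : a ≫ (pushforward g).map φ₁ = φ ≫ b) (ha : IsUniv v (pushSquare p v g p₁ w a))
    (hb : IsUniv v (pushSquare p v g p₁ w b))
    (hφ : Epi ((pushforward p₁).map φ₁)) : Epi ((pushforward p).map φ) := by
  have h1 := pushSquare_natural w a b φ φ₁ h
  have hI := (isUniv_iff_isIso v _).1 hb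
  have hI' := (isUniv_iff_isIso v _).1 ha
  let adj := pullbackPushforwardAdjunction v
  have h2 : (Scheme.Modules.pullback v).map ((pushforward p).map φ) ≫
      ((adj.homEquiv _ _).symm (pushSquare p v g p₁ w b)) =
      ((adj.homEquiv _ _).symm (pushSquare p v g p₁ w a)) ≫ (pushforward p₁).map φ₁ := by
    rw [← Adjunction.homEquiv_naturality_left_symm, h1, Adjunction.homEquiv_naturality_right_symm]
  have h3 : Epi ((Scheme.Modules.pullback v).map ((pushforward p).map φ)) := by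
    have h4 : (Scheme.Modules.pullback v).map ((pushforward p).map φ) =
        ((adj.homEquiv _ _).symm (pushSquare p v g p₁ w a)) ≫ (pushforward p₁).map φ₁ ≫
          inv ((adj.homEquiv _ _).symm (pushSquare p v g p₁ w b)) := by
      rw [← Category.assoc, ← h2, Category.assoc, IsIso.hom_inv_id, Category.comp_id]
    rw [h4]
    infer_instance
  exact PerfB.FlatPull.epi_of_epi_pullback_map v _

theorem pushSquare_comp {Z Z₁ : Scheme.{u}} {j : Z ⟶ X} {j₁ : Z₁ ⟶ X₁} {gZ : Z₁ ⟶ Z}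
    (w : g ≫ p = p₁ ≫ v) (wZ : gZ ≫ j = j₁ ≫ g) (wc : gZ ≫ j ≫ p = (j₁ ≫ p₁) ≫ v)
    {H : Z.Modules} {H₁ : Z₁.Modules} (b : H ⟶ (pushforward gZ).obj H₁) :
    pushSquare p v g p₁ w (pushSquare j g gZ j₁ wZ b) =
      (pushforwardComp j p).hom.app H ≫ pushSquare (j ≫ p) v gZ (j₁ ≫ p₁) wc b ≫
        (pushforward v).map ((pushforwardComp j₁ p₁).inv.app H₁) := by
  refine Scheme.Modules.hom_ext _ _ fun U => ?_
  ext s
  have e1 : p₁ ⁻¹ᵁ (v ⁻¹ᵁ U) ≤ g ⁻¹ᵁ (p ⁻¹ᵁ U) := preimage_le w U _ le_rfl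
  have e2 : j₁ ⁻¹ᵁ (g ⁻¹ᵁ (p ⁻¹ᵁ U)) ≤ gZ ⁻¹ᵁ (j ⁻¹ᵁ (p ⁻¹ᵁ U)) := preimage_le wZ (p ⁻¹ᵁ U) _ le_rfl
  exact map_map' H₁ (j₁.preimage_mono e1) e2 (b.app (j ⁻¹ᵁ (p ⁻¹ᵁ U)) s)

/-- Base change holds for modules which are direct images from a closed subscheme affine over the base. -/
theorem isUniv_of_push (hP : IsPullback g p₁ p v) {Z : Scheme.{u}} (j : Z ⟶ X) [IsAffineHom j]
    [IsAffineHom (j ≫ p)] {H : Z.Modules} (hH : Coh.IsQCoh H) {B : X.Modules} {B₁ : X₁.Modules}
    (e : B ≅ (pushforward j).obj H) (b : B ⟶ (pushforward g).obj B₁) (hb : IsUniv g b) :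
    IsUniv v (pushSquare p v g p₁ hP.w b) := by
  have hH' : H.IsQuasicoherent := hH
  have sq : IsPullback (pullback.fst j g) (pullback.snd j g) j g := IsPullback.of_hasPullback j g
  have sq' : IsPullback (pullback.fst j g) (pullback.snd j g ≫ p₁) (j ≫ p) v :=
    IsPullback.paste_vert sq hP
  let c : H ⟶ (pushforward (pullback.fst j g)).obj _ := pbUnit (pullback.fst j g) H
  have hc : IsUniv (pullback.fst j g) c := isUniv_pbUnit _ H
  have hc1 := CohqA.AffineBaseChange.isUniv_pushSquare sq c hc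
  have hc2 := hc1.iso_comp e.hom
  obtain ⟨ε, hε, -⟩ := hc2.exists_iso hb
  have h1 := pushSquare_natural hP.w (e.hom ≫ pushSquare j g (pullback.fst j g) (pullback.snd j g) sq.w c) b
    (𝟙 B) ε.hom (by rw [hε, Category.id_comp])
  rw [CategoryTheory.Functor.map_id, Category.id_comp] at h1
  rw [h1]
  refine IsUniv.comp_iso ?_ ((pushforward p₁).mapIso ε)
  have h2 := pushSquare_natural hP.w (e.hom ≫ pushSquare j g (pullback.fst j g) (pullback.snd j g) sq.w c)
    (pushSquare j g (pullback.fst j g) (pullback.snd j g) sq.w c) e.hom (𝟙 _) (by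
      rw [CategoryTheory.Functor.map_id, Category.comp_id])
  rw [CategoryTheory.Functor.map_id, CategoryTheory.Functor.map_id, Category.comp_id] at h2
  rw [← h2]
  refine IsUniv.iso_comp ?_ ((pushforward p).map e.hom)
  rw [pushSquare_comp hP.w sq.w sq'.w]
  refine IsUniv.iso_comp ?_ ((pushforwardComp j p).hom.app H)
  exact IsUniv.comp_iso (CohqA.AffineBaseChange.isUniv_pushSquare sq' c hc)
    ((pushforwardComp (pullback.snd j g) p₁).symm.app _)

end Square

theorem unit_nat {X X₁ : Scheme.{u}} (g : X₁ ⟶ X) {M N : X.Modules} {M' N' : X₁.Modules} (φ : M ⟶ N)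
    (e : (Scheme.Modules.pullback g).obj M ⟶ M') (e' : (Scheme.Modules.pullback g).obj N ⟶ N')
    (φ' : M' ⟶ N') (h : (Scheme.Modules.pullback g).map φ ≫ e' = e ≫ φ') :
    ((pullbackPushforwardAdjunction g).unit.app M ≫ (pushforward g).map e) ≫ (pushforward g).map φ' =
      φ ≫ (pullbackPushforwardAdjunction g).unit.app N ≫ (pushforward g).map e' := by
  have h1 : φ ≫ (pullbackPushforwardAdjunction g).unit.app N =
    (pullbackPushforwardAdjunction g).unit.app M ≫
      (pushforward g).map ((Scheme.Modules.pullback g).map φ) :=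
    (pullbackPushforwardAdjunction g).unit.naturality φ
  rw [Category.assoc, ← Functor.map_comp, ← h, Functor.map_comp, reassoc_of% h1]

section Twist

variable {X X₁ C : Scheme.{u}} (F : X.Modules) (q : X ⟶ C) (g : X₁ ⟶ X) (q₁ : X₁ ⟶ C) (hq : g ≫ q = q₁)

/-- `g^* (F ⊗ q^* A) ≅ g^* F ⊗ q₁^* A`. -/
def twPull (A : C.Modules) : (Scheme.Modules.pullback g).obj (twObj F q A) ≅
    twObj ((Scheme.Modules.pullback g).obj F) q₁ A :=
  (Sga67.ClosedTens.muIso g F).app ((Scheme.Modules.pullback q).obj A) ≪≫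
    tensIso _ ((pullbackComp g q).app A ≪≫ (pullbackCongr hq).app A)

theorem twPull_natural {A B : C.Modules} (φ : A ⟶ B) :
    (Scheme.Modules.pullback g).map (tw F q φ) ≫ (twPull F q g q₁ hq B).hom =
      (twPull F q g q₁ hq A).hom ≫ tw ((Scheme.Modules.pullback g).obj F) q₁ φ := by
  let τ : Scheme.Modules.pullback q ⋙ Scheme.Modules.pullback g ≅ Scheme.Modules.pullback q₁ :=
    pullbackComp g q ≪≫ pullbackCongr hq
  have h1 := (Sga67.ClosedTens.muIso g F).hom.naturality ((Scheme.Modules.pullback q).map φ)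
  have h2 := τ.hom.naturality φ
  have h3 : (DCoh.tensorBi.obj ((Scheme.Modules.pullback g).obj F)).map
      ((Scheme.Modules.pullback g).map ((Scheme.Modules.pullback q).map φ)) ≫
      (DCoh.tensorBi.obj ((Scheme.Modules.pullback g).obj F)).map (τ.hom.app B) =
      (DCoh.tensorBi.obj ((Scheme.Modules.pullback g).obj F)).map (τ.hom.app A) ≫
      (DCoh.tensorBi.obj ((Scheme.Modules.pullback g).obj F)).map ((Scheme.Modules.pullback q₁).map φ) := by
    rw [← Functor.map_comp, ← Functor.map_comp]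
    exact congrArg _ h2
  have h4 := congrArg (fun z => z ≫ (DCoh.tensorBi.obj ((Scheme.Modules.pullback g).obj F)).map
    (τ.hom.app B)) h1
  refine (Category.assoc _ _ _).symm.trans (h4.trans ?_)
  refine (Category.assoc _ _ _).trans ?_
  refine Eq.trans ?_ (Category.assoc _ _ _).symm
  exact congrArg (fun z => (Sga67.ClosedTens.muIso g F).hom.app _ ≫ z) h3

/-- The universal map `F ⊗ q^* A ⟶ g_* (g^* F ⊗ q₁^* A)`. -/
def twU (A : C.Modules) : twObj F q A ⟶
    (pushforward g).obj (twObj ((Scheme.Modules.pullback g).obj F) q₁ A) :=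
  (pullbackPushforwardAdjunction g).unit.app (twObj F q A) ≫
    (pushforward g).map (twPull F q g q₁ hq A).hom

theorem isUniv_twU (A : C.Modules) : IsUniv g (twU F q g q₁ hq A) :=
  (isUniv_unit g _).comp_iso _

theorem twU_natural {A B : C.Modules} (φ : A ⟶ B) :
    twU F q g q₁ hq A ≫ (pushforward g).map (tw ((Scheme.Modules.pullback g).obj F) q₁ φ) =
      tw F q φ ≫ twU F q g q₁ hq B := by
  exact unit_nat g (tw F q φ) _ _ _ (twPull_natural F q g q₁ hq φ)

end Twist

section Final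

variable {X T C S X₁ T₁ : Scheme.{u}} {F : X.Modules} {q : X ⟶ C} {p : X ⟶ T} {t : T ⟶ S} {c : C ⟶ S}
  {v : T₁ ⟶ T} {g : X₁ ⟶ X} {p₁ : X₁ ⟶ T₁} {q₁ : X₁ ⟶ C}

theorem isUniv_quot (hF : FlatMod.IsFinLocFree F) (h : IsPullback p q t c) (hP : IsPullback g p₁ p v)
    (hq : g ≫ q = q₁) {Z : Scheme.{u}} (i : Z ⟶ C) [IsClosedImmersion i] [IsAffineHom (i ≫ c)]
    (N : Z.Modules) (hN : Coh.IsQCoh N) :
    IsUniv v (pushSquare p v g p₁ hP.w (twU F q g q₁ hq ((pushforward i).obj N))) := by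
  have hN' : N.IsQuasicoherent := hN
  obtain ⟨e1⟩ := CohqA.AffineBaseChange.nonempty_iso (IsPullback.of_hasPullback i q) N
  have := isAffineHom_snd_comp q p h i
  let e2 := tensIso F e1
  let e3 := ProjForm.projIso (pullback.snd i q) (TensCoh.HasBases.of_isFinLocFree hF)
    ((Scheme.Modules.pullback (pullback.fst i q)).obj N)
  refine isUniv_of_push hP (pullback.snd i q) ?_ (e2 ≪≫ e3) _ (isUniv_twU F q g q₁ hq _)
  exact TensCoh.isQCoh_tensorMod (ProjForm.HasBases.pullback _ (TensCoh.HasBases.of_isFinLocFree hF))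
    (FormalA.PullbackQC.isQCoh_pullback _ N hN)

theorem isUniv_flat [QuasiCompact p] [QuasiSeparated p] [Flat v] (hF : FlatMod.IsFinLocFree F)
    (hP : IsPullback g p₁ p v) (hq : g ≫ q = q₁) (A : C.Modules) (hA : Coh.IsQCoh A) :
    IsUniv v (pushSquare p v g p₁ hP.w (twU F q g q₁ hq A)) :=
  Coherent.K791.FBC0.isUniv_pushSquare_flat hP
    (TensCoh.isQCoh_tensorMod (TensCoh.HasBases.of_isFinLocFree hF)
      (FormalA.PullbackQC.isQCoh_pullback _ A hA)) _ (isUniv_twU F q g q₁ hq A)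

theorem epi_bc (hF : FlatMod.IsFinLocFree F) (h : IsPullback p q t c) (hP : IsPullback g p₁ p v)
    (hq : g ≫ q = q₁) (D : C.IdealSheafData) [IsAffineHom (D.subschemeι ≫ c)]
    (hE : Epi ((Coh.push p).map (tw F q (ClSub.toSubscheme D)))) :
    Epi ((Coh.push p₁).map (tw ((Scheme.Modules.pullback g).obj F) q₁ (ClSub.toSubscheme D))) :=
  epi_up hP.w _ _ _ _ (twU_natural F q g q₁ hq (ClSub.toSubscheme D))
    (isUniv_quot hF h hP hq D.subschemeι _ (CurvesB.UnitCoh.isCoh_structureModule _).1) hE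

theorem epi_desc [QuasiCompact p] [QuasiSeparated p] [Flat v] [Surjective v]
    (hF : FlatMod.IsFinLocFree F) (h : IsPullback p q t c) (hP : IsPullback g p₁ p v)
    (hq : g ≫ q = q₁) (D : C.IdealSheafData) [IsAffineHom (D.subschemeι ≫ c)]
    (hE : Epi ((Coh.push p₁).map (tw ((Scheme.Modules.pullback g).obj F) q₁ (ClSub.toSubscheme D)))) :
    Epi ((Coh.push p).map (tw F q (ClSub.toSubscheme D))) :=
  epi_down hP.w _ _ _ _ (twU_natural F q g q₁ hq (ClSub.toSubscheme D))
    (isUniv_flat hF hP hq _ (CurvesB.UnitCoh.isCoh_structureModule _).1)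
    (isUniv_quot hF h hP hq D.subschemeι _ (CurvesB.UnitCoh.isCoh_structureModule _).1) hE

end Final

end K79.FreeSec
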