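import Groth.Agent.VBCurve.K703.Duality
import Groth.Agent.VBCurve.K703.Stab
import Groth.Agent.VBCurve.K703.Twist
import Groth.Agent.S1564
import Groth.Agent.S1604
import Groth.Agent.S1526
import Groth.Agent.VarietyB.DegCartier
import Groth.Agent.VarietyB.ExactLoc
import Groth.Agent.CohqB.LocBaseHH
import Groth.Agent.VarietyA.HLin
import Groth.Agent.CurvesC.DegIso
import Groth.Agent.Dix.IdealModCartier
import Groth.Agent.Grpsch.PicGrp
import Groth.Agent.Ega2.TensMon
import Groth.Agent.Dcoh.FlatSES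
import Groth.Agent.Dcoh.Spread

/-!
# Vanishing of `H^1(T(-E))` from surjectivity of `H^0(T) → H^0(T|_D)`
-/

set_option autoImplicit false
universe u

open CategoryTheory CategoryTheory.Limits AlgebraicGeometry Opposite TopologicalSpace MonoidalCategory
open Groth.Agent Groth.Agent.VarietyB

noncomputable section

namespace K79.FreeSec.Curve

open K703 K707.Base K707.Deg K707.Slope K707.Semi Groth.Agent.VarietyA.DegRank CohqB.HSeqMod

variable (k : Type u) [Field k] {X : Scheme.{u}} [X.Over (Spec (CommRingCat.of k))]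
  [IsProper (X ↘ (Spec (CommRingCat.of k)))]

include k in
/-- `H^i (F ⊗ O_D) = 0` for `i > 0`. -/
theorem subsingleton_tensor_quot (hdim : topologicalKrullDim X ≤ 1) {F : X.Modules}
    (hF : FlatMod.IsFinLocFree F) (D : X.IdealSheafData) (hD : BlowUp.IsEffCartierIdeal D) (i : ℕ) (hi : 1 ≤ i) :
    Subsingleton (Coh.HH X (CohB1.tensorMod F (ClSub.quotMod D)) i) := by
  have hN := isNoetherian k (X := X)
  have hb := TensCoh.HasBases.of_isFinLocFree hF
  have h1 := TensCoh.isCoh_tensorMod hb (DegCartier.isCoh_quotMod D)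
  have h2 := (AddFun.dim_mono (S1604.support_tensor hb (ClSub.quotMod D))).trans
    (DegCartier.dim_support_quotMod k hdim D hD)
  exact S1526.result k X (CohB1.tensorMod F (ClSub.quotMod D)) h1 h2 i hi

/-- `h^0 (I ⊗ O_D) = h^0 (O_D)` for `I` invertible. -/
theorem finrank_tensor_quot (hdim : topologicalKrullDim X ≤ 1) {I : X.Modules}
    (hI : PicF.IsInvertible I) (D : X.IdealSheafData) (hD : BlowUp.IsEffCartierIdeal D) :
    Module.finrank k (Coh.HH X (CohB1.tensorMod I (ClSub.quotMod D)) 0) =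
      Module.finrank k (Coh.HH X (ClSub.quotMod D) 0) := by
  have hN := isNoetherian k (X := X)
  have h1 : Curv2.euler k X (CohB1.tensorMod I (ClSub.quotMod D)) =
      Module.finrank k (Coh.HH X (ClSub.quotMod D) 0) := by
    rw [DegPhi.euler_congr k (Ega2.Tens.swap I _), S1558.result k X _ (DegCartier.isCoh_quotMod D)
      (DegCartier.dim_support_quotMod k hdim D hD) 1 I (DegCartier.isFinLocFreeOfRank_one hI),
      DegCartier.euler_quotMod k hdim D hD]
    simp
  have h2 : Curv2.euler k X (CohB1.tensorMod I (ClSub.quotMod D)) =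
      Module.finrank k (Coh.HH X (CohB1.tensorMod I (ClSub.quotMod D)) 0) := by
    have h3 : ∀ i : ℕ, 1 ≤ i → Subsingleton (Coh.HH X (CohB1.tensorMod I (ClSub.quotMod D)) i) := fun i hi =>
      subsingleton_tensor_quot k hdim (Stab.vb_of_inv hI) D hD i hi
    exact VarietyA.EulerFinite.euler_eq_of_vanish k X (CohB1.tensorMod I (ClSub.quotMod D)) h3
  exact_mod_cast h2.symm.trans h1

omit [X.Over (Spec (CommRingCat.of k))] [IsProper (X ↘ (Spec (CommRingCat.of k)))] in
/-- `Hom (T ⊗ J, w) ≅ Hom (T, w ⊗ L)` for `J ⊗ L ≅ O` (only: nonzero maps go to nonzero maps). -/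
theorem exists_psi {T J L w : X.Modules} (eL : CohB1.tensorMod J L ≅ Coh.structureModule X)
    (φ : CohB1.tensorMod T J ⟶ w) (hφ : φ ≠ 0) : ∃ ψ : T ⟶ CohB1.tensorMod w L, ψ ≠ 0 := by
  have hfa := Flat2E.FormalLift418.faithful_tw eL
  let a1 : (DCoh.tensorRightMod L).obj (CohB1.tensorMod T J) ≅
      (DCoh.tensorBi.obj T).obj (CohB1.tensorMod J L) := Ega2.Tens.assoc T J L
  let a2 : (DCoh.tensorBi.obj T).obj (CohB1.tensorMod J L) ≅
      (DCoh.tensorBi.obj T).obj (Coh.structureModule X) := (DCoh.tensorBi.obj T).mapIso eL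
  let a3 : (DCoh.tensorBi.obj T).obj (Coh.structureModule X) ≅ T := Ega2.Tens.runit T
  let e1 : (DCoh.tensorRightMod L).obj (CohB1.tensorMod T J) ≅ T := a1 ≪≫ a2 ≪≫ a3
  have h0 : (DCoh.tensorRightMod L).map φ ≠ 0 := fun h1 =>
    hφ ((DCoh.tensorRightMod L).map_injective (h1.trans (Functor.map_zero _ _ _).symm))
  have h2 : e1.inv ≫ (DCoh.tensorRightMod L).map φ ≠ 0 := fun h =>
    h0 ((cancel_epi e1.inv).1 (h.trans comp_zero.symm))
  exact ⟨_, h2⟩

include k in
/-- `H^0 (T ⊗ O_D) → H^0 (I ⊗ O_D)` is surjective for a surjection `T → I` of vector bundles. -/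
theorem surjective_b (hdim : topologicalKrullDim X ≤ 1) {T I : X.Modules} (p : T ⟶ I) [Epi p]
    (hI : FlatMod.IsFinLocFree I) (hK : FlatMod.IsFinLocFree (kernel p))
    (D : X.IdealSheafData) (hD : BlowUp.IsEffCartierIdeal D) :
    Function.Surjective (hmap ((DCoh.tensorBi.map p).app (ClSub.quotMod D)) 0) := by
  have hS : (ShortComplex.mk (kernel.ι p) p (kernel.condition p)).ShortExact :=
    { exact := ShortComplex.exact_of_f_is_kernel _ (kernelIsKernel p), mono_f := by dsimp; infer_instance, epi_g := by dsimp; infer_instance }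
  have hS' := Dcoh.FlatSES.shortExact_tensor hS (Dcoh.Spread.isFlat_of_isFinLocFree hI) (ClSub.quotMod D)
  exact CohqB.LocBaseHH.hmap_surjective_of_next_subsingleton hS' 0
    (subsingleton_tensor_quot k hdim hK D hD 1 le_rfl)

theorem main [IsAlgClosed k] [IsIntegral X] [Smooth (X ↘ (Spec (CommRingCat.of k)))]
    (hdim : topologicalKrullDim X = 1)
    {T : X.Modules} (hT : FlatMod.IsFinLocFree T)
    (D : X.IdealSheafData) (hD : BlowUp.IsEffCartierIdeal D)
    (hD1 : 1 ≤ Module.finrank k (Coh.HH X (ClSub.quotMod D) 0))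
    (hsurj : Function.Surjective (hmap ((DCoh.tensorBi.obj T).map (ClSub.toSubscheme D)) 0))
    (E : X.IdealSheafData) (hE : BlowUp.IsEffCartierIdeal E)
    (hdegE : Module.finrank k (Coh.HH X (ClSub.quotMod E) 0) + 2 * Curv2.genus k X =
      Module.finrank k (Coh.HH X (ClSub.quotMod D) 0)) :
    Subsingleton (Coh.HH X (CohB1.tensorMod T (ClSub.idealMod E)) 1) := by
  have hN := isNoetherian k (X := X)
  have C : Crv k X := Crv.of_smooth hdim
  obtain ⟨W⟩ := Duality.nonempty_dualizing k X hdim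
  by_contra hne
  have hTb := TensCoh.HasBases.of_isFinLocFree hT
  obtain ⟨φ, hφ⟩ := W.exists_ne_zero
    (TensCoh.isCoh_tensorMod hTb (DegCartier.isCoh_idealMod E)).1 hne
  have hEi := Dix.IdealModCartier.isInvertible_idealMod hE
  obtain ⟨L, hL, ⟨eL⟩⟩ := Grpsch.PicGrp.exists_inverse hEi
  -- the map `ψ : T ⟶ w ⊗ L`
  have hM : PicF.IsInvertible (CohB1.tensorMod W.w L) := Fdesc.LocGen.isInvertible_tensorMod W.inv hL
  obtain ⟨ψ, hψ⟩ := exists_psi eL φ hφ
  have hdL : Curv2.deg k X L 1 = Module.finrank k (Coh.HH X (ClSub.quotMod E) 0) := by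
    have h1 := (S1604.result k X hdim.le E hE L hL ⟨Ega2.Tens.swap L _ ≪≫ eL⟩ 1 (Coh.structureModule X)
      (DegCartier.isFinLocFreeOfRank_one Fdesc.LocGen.isInvertible_structureModule)).2
    rw [Basic.deg_congr k (Ega2.Tens.lunit L), Chi.deg_structure] at h1
    simpa using h1
  have hdM : Curv2.deg k X (CohB1.tensorMod W.w L) 1 =
      (Module.finrank k (Coh.HH X (ClSub.quotMod D) 0) : ℤ) - 2 := by
    rw [Twist.deg_tensor k hdim (DegCartier.isFinLocFreeOfRank_one W.inv) hL, hdL,
      W.deg_w_of_isAlgClosed hdim, ← hdegE]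
    push_cast
    ring
  obtain ⟨I, p, i, hp, hi, hpi, hI, hpos, -, -, hr, -⟩ :=
    exists_factor_pos C ψ hψ (coh_of_vb hT) (Stab.vb_of_inv hM)
  rw [Stab.rk_of_inv hM] at hr
  have hrI : rk I = 1 := by omega
  have hIi : PicF.IsInvertible I := Stab.inv_iff.1 (hrI ▸ isFinLocFreeOfRank_rk hI)
  have hi0 : i ≠ 0 := by
    rintro rfl
    rw [comp_zero] at hpi
    exact hψ hpi.symm
  have hdI := Basic.deg_le k hdim hIi hM i hi0
  -- surjectivity on `I`
  let a := (DCoh.tensorBi.obj T).map (ClSub.toSubscheme D)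
  let b := (DCoh.tensorBi.map p).app (ClSub.quotMod D)
  let a' := (DCoh.tensorBi.map p).app (Coh.structureModule X)
  let c := (DCoh.tensorBi.obj I).map (ClSub.toSubscheme D)
  have hcomm : a ≫ b = a' ≫ c := (DCoh.tensorBi.map p).naturality (ClSub.toSubscheme D)
  have hb : Function.Surjective (hmap b 0) := surjective_b k hdim.le p hI (vb_kernel C p hT (coh_of_vb hI)) D hD
  have hc : Function.Surjective (hmap c 0) := by
    have h1 : Function.Surjective (hmap (a' ≫ c) 0) := by
      rw [← hcomm]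
      intro y
      obtain ⟨y₁, rfl⟩ := hb y
      obtain ⟨y₂, rfl⟩ := hsurj y₁
      exact ⟨y₂, hmap_comp_apply _ _ _ _⟩
    intro y
    obtain ⟨x, rfl⟩ := h1 y
    exact ⟨hmap a' 0 x, (hmap_comp_apply _ _ _ _).symm⟩
  have hle : Module.finrank k (Coh.HH X (ClSub.quotMod D) 0) ≤ Module.finrank k (Coh.HH X I 0) := by
    rw [← finrank_tensor_quot k hdim.le hIi D hD]
    have hfin : Module.Finite k (Coh.HH X ((DCoh.tensorBi.obj I).obj (Coh.structureModule X)) 0) :=
      S0002.result k X _ (TensCoh.isCoh_tensorMod (TensCoh.HasBases.of_isFinLocFree hI)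
        (CurvesB.UnitCoh.isCoh_structureModule X)) 0
    have h1 := LinearMap.finrank_le_finrank_of_surjective (f := VarietyA.HLin.hmapₗ k c 0) hc
    exact h1.trans (le_of_eq (CurvesC.DegIso.finrank_congr k (Ega2.Tens.runit I) 0))
  have hnt : Nontrivial (Coh.HH X I 0) := Module.nontrivial_of_finrank_pos (R := k) (by omega)
  have h0 := Groth.Agent.VarietyA.CurveFin.finrank_h0_structure k X
  have h1 := (S1564.result k X hdim h0 I hIi hnt).1
  omega

end K79.FreeSec.Curve
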