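import Groth.Agent.Etrest.RDer1
import Groth.Agent.VarietyB.ProjForm
import Groth.Agent.VarietyB.ExactLoc
import Groth.Agent.CohqA.AffineBaseChange
import Groth.Agent.PerfC.FlatExact
import Groth.Agent.PerfC.RpushAffine
import Groth.Agent.Krr.H485.LerayCl
import Groth.Agent.Dcoh.DerSch
import Groth.Agent.VarietyB.DegCartier
import Groth.Agent.VarietyB.DegFin
import Groth.Agent.Sga2lef.H102.ProZero
import Groth.Agent.FormalA.ClosedImm
import Groth.Agent.FormalA.PullbackQC
import Groth.Agent.FormalB.KQuot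
import Groth.Agent.PerfA.QCohSerre
import Groth.Prelude.Def_ClSub2

/-!
# Twisting by a pull-back from the second factor

`tw F q φ : F ⊗ q^* A ⟶ F ⊗ q^* B` for `φ : A ⟶ B`, `q` flat and `F` finite locally free:
exactness, vanishing of higher direct images for `A = i_* N`, epimorphism criteria.
-/

set_option autoImplicit false
universe u

open CategoryTheory CategoryTheory.Limits AlgebraicGeometry Opposite TopologicalSpace MonoidalCategory
open Groth.Agent Groth.Agent.VarietyB

noncomputable section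

namespace K79.FreeSec

variable {X T C : Scheme.{u}} (F : X.Modules) (q : X ⟶ C) (p : X ⟶ T)

/-- `F ⊗ q^* A`. -/
abbrev twObj (A : C.Modules) : X.Modules :=
  CohB1.tensorMod F ((Scheme.Modules.pullback q).obj A)

/-- `F ⊗ q^* φ`. -/
abbrev tw {A B : C.Modules} (φ : A ⟶ B) : twObj F q A ⟶ twObj F q B :=
  (CohB1.sheafifyMod X).map (CohB1.toPMod F ◁ ((Scheme.Modules.pullback q).map φ).val)

/-- the short complex `F ⊗ q^* S`. -/
def twS (S : ShortComplex C.Modules) : ShortComplex X.Modules :=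
  (S.map (Scheme.Modules.pullback q)).map (DCoh.tensorBi.obj F)

theorem twS_X₁ (S : ShortComplex C.Modules) : (twS F q S).X₁ = twObj F q S.X₁ := rfl
theorem twS_X₂ (S : ShortComplex C.Modules) : (twS F q S).X₂ = twObj F q S.X₂ := rfl
theorem twS_X₃ (S : ShortComplex C.Modules) : (twS F q S).X₃ = twObj F q S.X₃ := rfl
theorem twS_f (S : ShortComplex C.Modules) : (twS F q S).f = tw F q S.f := rfl
theorem twS_g (S : ShortComplex C.Modules) : (twS F q S).g = tw F q S.g := rfl

theorem shortExact_tw [Flat q] (hF : FlatMod.IsFinLocFree F) (S : ShortComplex C.Modules)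
    (hS : S.ShortExact) : (twS F q S).ShortExact := by
  have := PerfC.FlatExact.preservesFiniteLimits_pullback q
  have h1 : (S.map (Scheme.Modules.pullback q)).ShortExact := hS.map_of_exact _
  exact ExactLoc.tensor_shortExact (TensCoh.HasBases.of_isFinLocFree hF) _ h1

theorem tw_comp {A B D : C.Modules} (φ : A ⟶ B) (ψ : B ⟶ D) : tw F q (φ ≫ ψ) = tw F q φ ≫ tw F q ψ :=
  (Scheme.Modules.pullback q ⋙ DCoh.tensorBi.obj F).map_comp φ ψ

theorem tw_id (A : C.Modules) : tw F q (𝟙 A) = 𝟙 _ :=
  (Scheme.Modules.pullback q ⋙ DCoh.tensorBi.obj F).map_id A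

/-- `tw` on isomorphisms. -/
def twIso {A B : C.Modules} (e : A ≅ B) : twObj F q A ≅ twObj F q B where
  hom := tw F q e.hom
  inv := tw F q e.inv
  hom_inv_id := by rw [← tw_comp, e.hom_inv_id, tw_id]
  inv_hom_id := by rw [← tw_comp, e.inv_hom_id, tw_id]

/-- `F ⊗ -` on isomorphisms. -/
def tensIso {A B : X.Modules} (e : A ≅ B) : CohB1.tensorMod F A ≅ CohB1.tensorMod F B :=
  (DCoh.tensorBi.obj F).mapIso e

/-- The geometric situation: the subscheme `i : Z ⟶ C` is affine over the base of `C`, and `X` is the product. -/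
theorem isAffineHom_snd_comp {S Z : Scheme.{u}} {t : T ⟶ S} {c : C ⟶ S} (h : IsPullback p q t c)
    (i : Z ⟶ C) [IsAffineHom (i ≫ c)] : IsAffineHom (pullback.snd i q ≫ p) := by
  have h1 : IsPullback (pullback.snd i q ≫ p) (pullback.fst i q) t (i ≫ c) :=
    IsPullback.paste_horiz (IsPullback.of_hasPullback i q).flip h
  exact MorphismProperty.of_isPullback (P := @IsAffineHom) h1.flip inferInstance

variable {F p q}

/-- `R^n p_* (F ⊗ q^* i_* N) = 0` for `n > 0`. -/
theorem isZero_Rpush_push [HasInjectiveResolutions X.Modules] (hF : FlatMod.IsFinLocFree F)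
    {S Z : Scheme.{u}} {t : T ⟶ S} {c : C ⟶ S} (h : IsPullback p q t c)
    (i : Z ⟶ C) [IsClosedImmersion i] [IsAffineHom (i ≫ c)] (N : Z.Modules) (hN : Coh.IsQCoh N)
    (n : ℕ) (hn : 0 < n) :
    IsZero ((Coh.Rpush p n).obj (twObj F q ((Scheme.Modules.pushforward i).obj N))) := by
  have hN' : N.IsQuasicoherent := hN
  obtain ⟨e1⟩ := CohqA.AffineBaseChange.nonempty_iso (IsPullback.of_hasPullback i q) N
  have := isAffineHom_snd_comp q p h i
  let e2 := tensIso F e1
  let e3 := ProjForm.projIso (pullback.snd i q) (TensCoh.HasBases.of_isFinLocFree hF)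
    ((Scheme.Modules.pullback (pullback.fst i q)).obj N)
  have h4 : HasInjectiveResolutions (pullback i q).Modules := Dcoh.DerSch.hasInjectiveResolutions _
  obtain ⟨e5⟩ := Krr.H485.LerayCl.nonempty_iso (pullback.snd i q) p
    (CohB1.tensorMod ((Scheme.Modules.pullback (pullback.snd i q)).obj F)
      ((Scheme.Modules.pullback (pullback.fst i q)).obj N)) n
  refine IsZero.of_iso ?_ ((Coh.Rpush p n).mapIso (e2 ≪≫ e3) ≪≫ e5.symm)
  refine PerfC.RpushAffine.isZero_Rpush _ _ ?_ n hn
  exact TensCoh.isQCoh_tensorMod (ProjForm.HasBases.pullback _ (TensCoh.HasBases.of_isFinLocFree hF))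
    (FormalA.PullbackQC.isQCoh_pullback _ N hN)

/-- `R^n p_* (F ⊗ q^* K) = 0` for `n > 0` and `K` killed by `D`. -/
theorem isZero_Rpush_killed [HasInjectiveResolutions X.Modules] (hF : FlatMod.IsFinLocFree F)
    {S : Scheme.{u}} {t : T ⟶ S} {c : C ⟶ S} (h : IsPullback p q t c)
    (D : C.IdealSheafData) [IsAffineHom (D.subschemeι ≫ c)] (K : C.Modules) (hK : Coh.IsQCoh K)
    (hKD : ClSub.KilledByIdeal D K) (n : ℕ) (hn : 0 < n) :
    IsZero ((Coh.Rpush p n).obj (twObj F q K)) := by
  have hk : ClSub.KilledByIdeal D.subschemeι.ker K := by rwa [Scheme.IdealSheafData.ker_subschemeι]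
  refine IsZero.of_iso (isZero_Rpush_push hF h D.subschemeι _
    (FormalA.PullbackQC.isQCoh_pullback D.subschemeι K hK) n hn) ((Coh.Rpush p n).mapIso
      (twIso F q (FormalA.ClosedImm.pushPullIso D.subschemeι hk).symm))

end K79.FreeSec
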